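import Groth.Agent.GrpSchLib.AntiAffine
import Groth.Agent.GrpSchLib.AntiAffineHom
import Groth.Agent.GrpSchLib.Kunneth
import Groth.Agent.GrpSchLib.LineGroups
import Groth.Agent.S13633
import Mathlib.AlgebraicGeometry.Sites.Fpqc
import Mathlib.CategoryTheory.Monoidal.Cartesian.Grp

/-!
# Descending a group law along an extension of fields
-/

set_option autoImplicit false
set_option linter.style.haveILetI false

universe u

open CategoryTheory CategoryTheory.Limits MonoidalCategory CartesianMonoidalCategory AlgebraicGeometry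
open scoped MonObj

attribute [local instance] CategoryTheory.Hom.monoid CategoryTheory.Hom.group

namespace Groth.Agent.Deform.FiniteDescent

variable {K L : Type u} [Field K] [Field L] (φ : K →+* L)

local notation "π" => Spec.map (CommRingCat.ofHom φ)

/-- A morphism which becomes constant after extending the field is constant. -/
theorem exists_desc_const {X Y : Over (Spec (CommRingCat.of K))} [QuasiCompact X.hom] [Nonempty X.left]
    (f : X ⟶ Y) (y : 𝟙_ (Over (Spec (CommRingCat.of L))) ⟶ (Over.pullback π).obj Y)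
    (h : (Over.pullback π).map f = toUnit _ ≫ y) : ∃ y₀ : 𝟙_ (Over (Spec (CommRingCat.of K))) ⟶ Y, f = toUnit X ≫ y₀ := by
  have he : fst X X ≫ f = snd X X ≫ f := GrpSchLib.AntiAffine.eq_of_map_eq φ (by
    rw [Functor.map_comp, Functor.map_comp, h, ← Category.assoc, ← Category.assoc,
      toUnit_unique ((Over.pullback π).map (fst X X) ≫ toUnit _) (toUnit _),
      toUnit_unique ((Over.pullback π).map (snd X X) ≫ toUnit _) (toUnit _)])
  haveI : Flat X.hom := S13633.flat_over_field _
  haveI : Surjective X.hom := ⟨fun _ => ⟨Classical.arbitrary _, Subsingleton.elim (α := PrimeSpectrum K) _ _⟩⟩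
  haveI : EffectiveEpi X.hom := inferInstance
  have hag : ∀ {T : Scheme.{u}} (g₁ g₂ : T ⟶ X.left), g₁ ≫ X.hom = g₂ ≫ X.hom → g₁ ≫ f.left = g₂ ≫ f.left := by
    intro T g₁ g₂ hg
    have h' := congrArg (fun m : X ⊗ X ⟶ Y => pullback.lift g₁ g₂ hg ≫ m.left) he
    change pullback.lift g₁ g₂ hg ≫ (pullback.fst X.hom X.hom ≫ f.left) =
      pullback.lift g₁ g₂ hg ≫ (pullback.snd X.hom X.hom ≫ f.left) at h'
    rwa [pullback.lift_fst_assoc, pullback.lift_snd_assoc] at h'
  have hfac := EffectiveEpi.fac X.hom f.left hag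
  refine ⟨Over.homMk (EffectiveEpi.desc X.hom f.left hag) ?_, Over.OverMorphism.ext hfac.symm⟩
  rw [← cancel_epi X.hom, ← Category.assoc, hfac, Over.w f]
  exact (Category.comp_id _).symm

/-- A group law descends as soon as division does. -/
theorem exists_grpObj_of_div {X : Over (Spec (CommRingCat.of K))} [QuasiCompact X.hom] [Nonempty X.left]
    {G : Over (Spec (CommRingCat.of L))} [GrpObj G] (e : (Over.pullback π).obj X ≅ G) (d : X ⊗ X ⟶ X)
    (hd : (Over.pullback π).map d ≫ e.hom =
      ((Over.pullback π).map (fst X X) ≫ e.hom) / ((Over.pullback π).map (snd X X) ≫ e.hom)) :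
    Nonempty (GrpObj X) := by
  let F := Over.pullback π
  let Φ : ∀ {T : Over (Spec (CommRingCat.of K))}, (T ⟶ X) → (F.obj T ⟶ G) := fun a => F.map a ≫ e.hom
  have hinj : ∀ {T : Over (Spec (CommRingCat.of K))} {a b : T ⟶ X}, Φ a = Φ b → a = b := fun h =>
    GrpSchLib.AntiAffine.eq_of_map_eq φ ((cancel_mono e.hom).1 h)
  have hΦd : ∀ {T : Over (Spec (CommRingCat.of K))} (a b : T ⟶ X), Φ (lift a b ≫ d) = Φ a / Φ b := fun a b => by
    show F.map (lift a b ≫ d) ≫ e.hom = F.map a ≫ e.hom / F.map b ≫ e.hom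
    rw [Functor.map_comp, Category.assoc, show F.map d ≫ e.hom = _ from hd, GrpObj.comp_div]
    rw [← Category.assoc, ← Category.assoc, ← Functor.map_comp, ← Functor.map_comp, lift_fst, lift_snd]
  obtain ⟨e₀, he₀⟩ := exists_desc_const φ (lift (𝟙 X) (𝟙 X) ≫ d) ((1 : _ ⟶ G) ≫ e.inv) (by
    rw [← cancel_mono e.hom]
    refine (hΦd (𝟙 X) (𝟙 X)).trans ?_
    rw [div_self', Category.assoc, Category.assoc, Iso.inv_hom_id, Category.comp_id, MonObj.comp_one])
  have hΦe : ∀ {T : Over (Spec (CommRingCat.of K))}, Φ (toUnit T ≫ e₀) = 1 := fun {T} => by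
    have h1 : (toUnit (T ⊗ X) ≫ e₀ : T ⊗ X ⟶ X) = lift (snd T X) (snd T X) ≫ d := by
      rw [← toUnit_unique (snd T X ≫ toUnit X) (toUnit _), Category.assoc, ← he₀, ← Category.assoc, comp_lift,
        Category.comp_id]
    have h2 : Φ (toUnit (T ⊗ X) ≫ e₀) = 1 := by rw [h1, hΦd, div_self']
    have h3 : F.map (fst T X) ≫ Φ (toUnit T ≫ e₀) = F.map (fst T X) ≫ 1 := by
      rw [MonObj.comp_one, ← h2]
      simp only [Φ, ← Category.assoc, ← Functor.map_comp, toUnit_unique (fst T X ≫ toUnit T) (toUnit _)]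
    haveI : Epi (F.map (fst T X)) := by
      haveI : Surjective X.hom := ⟨fun _ => ⟨Classical.arbitrary _, Subsingleton.elim (α := PrimeSpectrum K) _ _⟩⟩
      haveI : Flat X.hom := S13633.flat_over_field _
      haveI : Surjective (fst T X).left := inferInstanceAs (Surjective (pullback.fst T.hom X.hom))
      haveI : Flat (fst T X).left := inferInstanceAs (Flat (pullback.fst T.hom X.hom))
      haveI : QuasiCompact (fst T X).left := inferInstanceAs (QuasiCompact (pullback.fst T.hom X.hom))
      haveI : Surjective (F.map (fst T X)).left := MorphismProperty.overPullbackMap (P := @Surjective) π _ ‹_›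
      haveI : Flat (F.map (fst T X)).left := MorphismProperty.overPullbackMap (P := @Flat) π _ ‹_›
      haveI : QuasiCompact (F.map (fst T X)).left := MorphismProperty.overPullbackMap (P := @QuasiCompact) π _ ‹_›
      haveI : Epi (F.map (fst T X)).left := Flat.epi_of_flat_of_surjective _
      exact (Over.forget _).epi_of_epi_map (inferInstanceAs (Epi (F.map (fst T X)).left))
    exact (cancel_epi _).1 h3
  let iv : X ⟶ X := lift (toUnit X ≫ e₀) (𝟙 X) ≫ d
  have hΦi : ∀ {T : Over (Spec (CommRingCat.of K))} (a : T ⟶ X), Φ (a ≫ iv) = (Φ a)⁻¹ := fun {T} a => by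
    rw [show a ≫ iv = lift (toUnit T ≫ e₀) a ≫ d by
      simp only [iv, ← Category.assoc, comp_lift, Category.comp_id, toUnit_unique (a ≫ toUnit X) (toUnit T)],
      hΦd, hΦe, one_div]
  let m : X ⊗ X ⟶ X := lift (fst X X) (snd X X ≫ iv) ≫ d
  have hΦm : ∀ {T : Over (Spec (CommRingCat.of K))} (a b : T ⟶ X), Φ (lift a b ≫ m) = Φ a * Φ b := fun a b => by
    rw [show lift a b ≫ m = lift a (b ≫ iv) ≫ d by
      simp only [m, ← Category.assoc, comp_lift, lift_fst, lift_snd], hΦd, hΦi, div_inv_eq_mul]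
  have hL : ∀ (T : Over (Spec (CommRingCat.of K))) (a : T ⟶ X), lift (toUnit T ≫ e₀) a ≫ m = a := fun T a =>
    hinj (by rw [hΦm, hΦe, _root_.one_mul])
  have hR : ∀ (T : Over (Spec (CommRingCat.of K))) (a : T ⟶ X), lift a (toUnit T ≫ e₀) ≫ m = a := fun T a =>
    hinj (by rw [hΦm, hΦe, _root_.mul_one])
  exact ⟨{
    one := e₀
    mul := m
    one_mul := by
      rw [show e₀ ▷ X = lift (toUnit _ ≫ e₀) (snd _ _) by
        ext <;> simp [toUnit_unique (fst (𝟙_ _) X) (toUnit _)], hL, leftUnitor_hom]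
    mul_one := by
      rw [show X ◁ e₀ = lift (fst _ _) (toUnit _ ≫ e₀) by
        ext <;> simp [toUnit_unique (snd X (𝟙_ _)) (toUnit _)], hR, rightUnitor_hom]
    mul_assoc := by
      have h1 : m ▷ X = lift (lift (fst _ _ ≫ fst X X) (fst _ _ ≫ snd X X) ≫ m) (snd _ _) := by
        apply hom_ext
        · rw [whiskerRight_fst, lift_fst, ← comp_lift, lift_fst_snd, Category.comp_id]
        · rw [whiskerRight_snd, lift_snd]
      have h2 : (α_ X X X).hom ≫ X ◁ m =
          lift (fst _ _ ≫ fst X X) (lift (fst _ _ ≫ snd X X) (snd _ _) ≫ m) := by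
        apply hom_ext
        · simp
        · rw [Category.assoc, whiskerLeft_snd, lift_snd, ← Category.assoc]
          congr 1
          ext <;> simp
      rw [h1, ← Category.assoc (α_ X X X).hom, h2]
      exact hinj (by rw [hΦm, hΦm, hΦm, hΦm, _root_.mul_assoc])
    inv := iv
    left_inv := hinj (by
      rw [hΦm, show iv = 𝟙 X ≫ iv from (Category.id_comp _).symm, hΦi, inv_mul_cancel, hΦe])
    right_inv := hinj (by
      rw [hΦm, show iv = 𝟙 X ≫ iv from (Category.id_comp _).symm, hΦi, mul_inv_cancel, hΦe]) }⟩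

/-- Only constant functions downstairs if so upstairs. -/
theorem bijective_appTop_of_bc {X : Over (Spec (CommRingCat.of K))} [QuasiCompact X.hom]
    [GrpObj X] (h : Function.Bijective ((Over.pullback π).obj X).hom.appTop) : Function.Bijective X.hom.appTop := by
  haveI : Nonempty X.left := ⟨η[X].left (IsLocalRing.closedPoint K : PrimeSpectrum K)⟩
  refine ⟨?_, fun f => ?_⟩
  · haveI : Nontrivial Γ(X.left, ⊤) := by
      haveI : Nonempty (⊤ : X.left.Opens) := ⟨⟨Classical.arbitrary _, trivial⟩⟩
      infer_instance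
    intro a b hab
    have hf : Function.Injective ((Scheme.ΓSpecIso (CommRingCat.of K)).inv ≫ X.hom.appTop).hom :=
      RingHom.injective _
    obtain ⟨a', rfl⟩ := (ConcreteCategory.bijective_of_isIso (Scheme.ΓSpecIso (CommRingCat.of K)).inv).2 a
    obtain ⟨b', rfl⟩ := (ConcreteCategory.bijective_of_isIso (Scheme.ΓSpecIso (CommRingCat.of K)).inv).2 b
    exact congrArg _ (hf hab)
  · let Y : Over (Spec (CommRingCat.of K)) :=
      Over.mk (Spec.map (CommRingCat.ofHom (algebraMap K (Polynomial K))))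
    haveI : IsAffine Y.left := inferInstanceAs (IsAffine (Spec (CommRingCat.of (Polynomial K))))
    let E := GrpSchLib.LineGroups.spEquiv (k := K) (Polynomial K)
    obtain ⟨ψ, hψ⟩ := GrpSchLib.LineGroups.exists_hom_ev (T := X) (X := Y)
      ((Polynomial.aeval (R := K) (f : GrpSchLib.Kunneth.Fn X)).comp E.symm.toAlgHom)
    haveI : IsAffine ((Over.pullback π).obj Y).left := inferInstanceAs (IsAffine (pullback Y.hom π))
    obtain ⟨y₀, hy₀⟩ := exists_desc_const φ ψ _
      (GrpSchLib.AntiAffine.eq_const_of_isAffine h ((Over.pullback π).map ψ) η[(Over.pullback π).obj X])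
    have h0 := congrArg (fun g : X ⟶ Y => GrpSchLib.Kunneth.ev g (E Polynomial.X)) hy₀
    simp only [hψ, AlgHom.comp_apply, AlgEquiv.coe_toAlgHom, AlgEquiv.symm_apply_apply, Polynomial.aeval_X] at h0
    exact ⟨y₀.left.appTop.hom (E Polynomial.X), h0.symm⟩

end Groth.Agent.Deform.FiniteDescent
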